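import Groth.Agent.Lib.McCoy3.Basic
import Groth.Agent.Lib.Depth.More
import Mathlib.RingTheory.Regular.RegularSequence
import Mathlib.RingTheory.Ideal.Colon

/-!
The Hilbert–Burch theorem.
-/

set_option autoImplicit false
set_option linter.style.haveILetI false

universe u

open scoped Matrix

namespace Groth.Agent.McCoy3

variable {R : Type u} [CommRing R] {t : ℕ}

/-- The signed maximal minors of a `(t+1) × t` matrix. -/
noncomputable def signedMinor (Ψ : Matrix (Fin (t + 1)) (Fin t) R) (i : Fin (t + 1)) : R :=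
  (-1 : R) ^ (i : ℕ) * (Ψ.submatrix i.succAbove id).det

theorem sum_signedMinor_mul (Ψ : Matrix (Fin (t + 1)) (Fin t) R) (j : Fin t) :
    ∑ i, signedMinor Ψ i * Ψ i j = 0 := by
  classical
  let E : Matrix (Fin (t + 1)) (Fin (t + 1)) R := Matrix.of fun i => Fin.cons (Ψ i j) (Ψ i)
  have h : E.det = 0 := Matrix.det_zero_of_column_eq (i := 0) (j := j.succ) (Fin.succ_ne_zero j).symm fun i => by simp [E]
  rw [Matrix.det_succ_column_zero] at h
  rw [← h]
  refine Finset.sum_congr rfl fun i _ => ?_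
  have hs : E.submatrix i.succAbove Fin.succ = Ψ.submatrix i.succAbove id := by
    ext a b
    simp [E]
  rw [hs, signedMinor]
  simp [E]
  ring

theorem sum_signedMinor_mulVec (Ψ : Matrix (Fin (t + 1)) (Fin t) R) (u : Fin t → R) :
    ∑ i, signedMinor Ψ i * (Ψ *ᵥ u) i = 0 := by
  have h : ∀ i, signedMinor Ψ i * (Ψ *ᵥ u) i = ∑ j, signedMinor Ψ i * Ψ i j * u j := fun i => by
    show _ * ∑ j, Ψ i j * u j = _
    rw [Finset.mul_sum]
    simp only [mul_assoc]
  rw [Finset.sum_congr rfl fun i _ => h i, Finset.sum_comm]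
  simp [← Finset.sum_mul, sum_signedMinor_mul]

theorem minorIdeal_eq_span (Ψ : Matrix (Fin (t + 1)) (Fin t) R) :
    CAlgX.minorIdeal Ψ t = Ideal.span (Set.range (signedMinor Ψ)) := by
  classical
  refine le_antisymm (Ideal.span_le.mpr ?_) (Ideal.span_le.mpr ?_)
  · rintro _ ⟨⟨f, g⟩, rfl⟩
    show (Ψ.submatrix f g).det ∈ Ideal.span (Set.range (signedMinor Ψ))
    by_cases hg : Function.Injective g
    swap
    · rw [mul_det_eq_zero_of_not_injective Ψ f g hg]; exact zero_mem _
    by_cases hf : Function.Injective f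
    swap
    · simp only [Function.Injective, not_forall] at hf
      obtain ⟨i, j, hij, hne⟩ := hf
      rw [Matrix.det_zero_of_row_eq hne (funext fun k => by simp [hij])]
      exact zero_mem _
    obtain ⟨k, hk⟩ : ∃ k, ∀ i, f i ≠ k := by
      by_contra hall
      push Not at hall
      have := Fintype.card_le_of_surjective f hall
      simp at this
    choose σ hσ using fun i => Fin.exists_succAbove_eq (hk i)
    have hσi : Function.Injective σ := fun a b h => hf (by rw [← hσ a, ← hσ b, h])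
    let eσ := Equiv.ofBijective σ (Finite.injective_iff_bijective.mp hσi)
    let eg := Equiv.ofBijective g (Finite.injective_iff_bijective.mp hg)
    have e : Ψ.submatrix f g = ((Ψ.submatrix k.succAbove id).submatrix eσ id).submatrix id eg := by
      ext a b
      simp [eσ, eg, hσ a]
    rw [e, Matrix.det_permute', Matrix.det_permute]
    refine Ideal.mul_mem_left _ _ (Ideal.mul_mem_left _ _ ?_)
    have : (Ψ.submatrix k.succAbove id).det = (-1 : R) ^ (k : ℕ) * signedMinor Ψ k := by
      rw [signedMinor, ← mul_assoc, ← mul_pow]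
      simp
    rw [this]
    exact Ideal.mul_mem_left _ _ (Ideal.subset_span (Set.mem_range_self k))
  · rintro _ ⟨k, rfl⟩
    exact Ideal.mul_mem_left _ _ (Ideal.subset_span ⟨⟨k.succAbove, id⟩, rfl⟩)

theorem range_linearCombination {ι : Type} [Fintype ι] (a : R) (Δ : ι → R) :
    LinearMap.range (Fintype.linearCombination R (fun i => a * Δ i)) = Ideal.span {a} * Ideal.span (Set.range Δ) := by
  rw [Fintype.range_linearCombination, Ideal.span_mul_span', Set.singleton_mul, ← Set.range_comp]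
  rfl

theorem sq_signedMinor_smul_mem (Ψ : Matrix (Fin (t + 1)) (Fin t) R) {z : Fin (t + 1) → R}
    (hz : ∑ i, signedMinor Ψ i * z i = 0) (k : Fin (t + 1)) :
    (signedMinor Ψ k * signedMinor Ψ k) • z ∈ LinearMap.range Ψ.mulVecLin := by
  classical
  let N := Ψ.submatrix k.succAbove id
  let u := N.adjugate *ᵥ (z ∘ k.succAbove)
  let w := N.det • z - Ψ *ᵥ u
  have hoff : ∀ i, i ≠ k → w i = 0 := fun i hi => by
    obtain ⟨a, rfl⟩ := Fin.exists_succAbove_eq hi
    have : (N *ᵥ u) a = N.det * z (k.succAbove a) := by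
      simp [u, Matrix.mulVec_mulVec, Matrix.mul_adjugate, Matrix.smul_mulVec]
    show N.det * z (k.succAbove a) - (Ψ *ᵥ u) (k.succAbove a) = 0
    rw [← this]
    exact sub_self _
  have hsum : ∑ i, signedMinor Ψ i * w i = 0 := by
    simp only [w, Pi.sub_apply, Pi.smul_apply, smul_eq_mul, mul_sub, Finset.sum_sub_distrib, sum_signedMinor_mulVec, sub_zero]
    simp only [mul_left_comm _ N.det, ← Finset.mul_sum, hz, mul_zero]
  rw [Finset.sum_eq_single k (fun i _ hi => by rw [hoff i hi, mul_zero]) (fun h => absurd (Finset.mem_univ k) h)] at hsum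
  have hw : signedMinor Ψ k • w = 0 := funext fun i => by
    by_cases hi : i = k
    · subst hi; exact hsum
    · simp [hoff i hi]
  have e : N.det = (-1 : R) ^ (k : ℕ) * signedMinor Ψ k := by
    rw [signedMinor, ← mul_assoc, ← mul_pow]
    simp [N]
  refine ⟨((-1 : R) ^ (k : ℕ) * signedMinor Ψ k) • u, ?_⟩
  rw [Matrix.mulVecLin_apply, Matrix.mulVec_smul]
  have h2 : (signedMinor Ψ k * N.det) • z = signedMinor Ψ k • (Ψ *ᵥ u) := by
    rw [mul_smul, ← sub_eq_zero, ← smul_sub]
    exact hw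
  rw [mul_smul, ← h2, smul_smul, e]
  congr 1
  rw [show (-1 : R) ^ (k : ℕ) * (signedMinor Ψ k * ((-1) ^ (k : ℕ) * signedMinor Ψ k)) =
    ((-1) * (-1)) ^ (k : ℕ) * (signedMinor Ψ k * signedMinor Ψ k) by rw [mul_pow]; ring]
  simp

theorem mem_range_of_smul_mem {m n : ℕ} (Ψ : Matrix (Fin n) (Fin m) R) (hΨ : Function.Injective Ψ.mulVecLin)
    {x y : R} (hx : IsSMulRegular R x) (hy : ∀ w, y * w ∈ Ideal.span {x} → w ∈ Ideal.span {x})
    {z : Fin n → R} (h1 : x • z ∈ LinearMap.range Ψ.mulVecLin) (h2 : y • z ∈ LinearMap.range Ψ.mulVecLin) :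
    z ∈ LinearMap.range Ψ.mulVecLin := by
  obtain ⟨u, hu⟩ := h1
  obtain ⟨v, hv⟩ := h2
  have h3 : y • u = x • v := hΨ (by rw [map_smul, map_smul, hu, hv, smul_comm])
  have hu' : ∀ i, u i ∈ Ideal.span {x} := fun i => hy _ (Ideal.mem_span_singleton'.mpr ⟨v i, by
    have := congrFun h3 i
    simp only [Pi.smul_apply, smul_eq_mul] at this
    rw [this, mul_comm]⟩)
  choose u' hu'' using fun i => Ideal.mem_span_singleton'.mp (hu' i)
  have e : x • u' = u := funext fun i => (mul_comm _ _).trans (hu'' i)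
  refine ⟨u', funext fun i => hx ?_⟩
  have := congrFun hu i
  rw [← e, map_smul] at this
  exact this

theorem mem_range_of_pow_smul_mem {m n : ℕ} (Ψ : Matrix (Fin n) (Fin m) R) (hΨ : Function.Injective Ψ.mulVecLin)
    {x y : R} (hx : IsSMulRegular R x) (hy : ∀ w, y * w ∈ Ideal.span {x} → w ∈ Ideal.span {x}) :
    ∀ (N M : ℕ) (z : Fin n → R), x ^ N • z ∈ LinearMap.range Ψ.mulVecLin → y ^ M • z ∈ LinearMap.range Ψ.mulVecLin →
      z ∈ LinearMap.range Ψ.mulVecLin := by
  intro N M
  have hyM : ∀ w, y ^ M * w ∈ Ideal.span {x} → w ∈ Ideal.span {x} := by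
    induction M with
    | zero => intro w hw; simpa using hw
    | succ M ih => intro w hw; rw [pow_succ', mul_assoc] at hw; exact ih _ (hy _ hw)
  induction N with
  | zero => intro z h _; simpa using h
  | succ N ih =>
    intro z h1 h2
    refine ih z (mem_range_of_smul_mem Ψ hΨ hx hyM ?_ ?_) h2
    · rw [smul_smul, ← pow_succ']; exact h1
    · rw [smul_comm]; exact Submodule.smul_mem _ _ h2

theorem ker_eq_range_of_regular (Ψ : Matrix (Fin (t + 1)) (Fin t) R) {x y : R} (hxI : x ∈ CAlgX.minorIdeal Ψ t)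
    (hyI : y ∈ CAlgX.minorIdeal Ψ t) (hx : IsSMulRegular R x)
    (hy : ∀ w, y * w ∈ Ideal.span {x} → w ∈ Ideal.span {x}) {a : R} (ha : a ∈ nonZeroDivisors R) :
    LinearMap.ker (Fintype.linearCombination R (fun i => a * signedMinor Ψ i)) = LinearMap.range Ψ.mulVecLin := by
  have hinj : Function.Injective Ψ.mulVecLin := injective_of_annihilator_eq_bot Ψ (eq_bot_iff.mpr fun c hc =>
    hx (show x * c = x * 0 by rw [mul_comm, mul_zero]; exact Submodule.mem_annihilator.mp hc x hxI))
  refine le_antisymm (fun z hz => ?_) ?_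
  · have hz' : ∑ i, signedMinor Ψ i * z i = 0 := by
      refine (mem_nonZeroDivisors_iff_right.mp ha) _ ?_
      rw [LinearMap.mem_ker, Fintype.linearCombination_apply] at hz
      rw [Finset.sum_mul, ← hz]
      exact Finset.sum_congr rfl fun i _ => by rw [smul_eq_mul]; ring
    let J : Ideal R := (LinearMap.range Ψ.mulVecLin).comap (LinearMap.toSpanSingleton R _ z)
    have hJ : CAlgX.minorIdeal Ψ t ≤ J.radical := by
      rw [minorIdeal_eq_span, Ideal.span_le]
      rintro _ ⟨k, rfl⟩
      refine ⟨2, ?_⟩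
      rw [pow_two]
      exact sq_signedMinor_smul_mem Ψ hz' k
    obtain ⟨N, hN⟩ := hJ hxI
    obtain ⟨M, hM⟩ := hJ hyI
    exact mem_range_of_pow_smul_mem Ψ hinj hx hy N M z hN hM
  · rintro _ ⟨u, rfl⟩
    rw [LinearMap.mem_ker, Fintype.linearCombination_apply]
    have : ∀ i, Ψ.mulVecLin u i • (a * signedMinor Ψ i) = a * (signedMinor Ψ i * (Ψ *ᵥ u) i) := fun i => by
      rw [smul_eq_mul, Matrix.mulVecLin_apply]; ring
    rw [Finset.sum_congr rfl fun i _ => this i, ← Finset.mul_sum, sum_signedMinor_mulVec, mul_zero]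

theorem exists_regular_pair {I : Ideal R} (h : 2 ≤ LocCoh.idealDepth I R) :
    ∃ x y : R, x ∈ I ∧ y ∈ I ∧ IsSMulRegular R x ∧ ∀ w, y * w ∈ Ideal.span {x} → w ∈ Ideal.span {x} := by
  by_cases hI : I • (⊤ : Submodule R R) = ⊤
  · rw [smul_eq_mul, Ideal.mul_top] at hI
    exact ⟨1, 1, hI ▸ Submodule.mem_top, hI ▸ Submodule.mem_top, fun a b h => by simpa using h,
      fun w hw => by simpa using hw⟩
  · obtain ⟨rs, hrs, hmem, hlen⟩ := DepthLib.exists_isWeaklyRegular_of_le_idealDepth hI (n := 2) (by exact_mod_cast h)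
    match rs, hlen with
    | [x, y], _ =>
      obtain ⟨hx, hr⟩ := (RingTheory.Sequence.isWeaklyRegular_cons_iff R x [y]).mp hrs
      have hy := ((RingTheory.Sequence.isWeaklyRegular_cons_iff _ y []).mp hr).1
      refine ⟨x, y, hmem x (by simp), hmem y (by simp), hx, fun w hw => ?_⟩
      have := (isSMulRegular_quotient_iff_mem_of_smul_mem _ y).mp hy w
      simp only [smul_eq_mul, ← Submodule.ideal_span_singleton_smul, Ideal.mul_top] at this
      exact this hw

end Groth.Agent.McCoy3
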