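import Groth.Agent.Lib.McCoy3.HilbertBurch

/-!
The Hilbert–Burch theorem, structure of length one resolutions of ideals.
-/

set_option autoImplicit false
set_option linter.style.haveILetI false

universe u

open scoped Matrix

namespace Groth.Agent.McCoy3

variable {R : Type u} [CommRing R] [IsNoetherianRing R] {m n : ℕ} (Ψ : Matrix (Fin n) (Fin m) R)
  (π : (Fin n → R) →ₗ[R] R)

theorem vec_eq_zero_of_minor_kills {I : Ideal R} {x : R} (hx : x ∈ I) (hxr : x ∈ nonZeroDivisors R) {c : R}
    (hI : I ≤ (Submodule.span R {c}).annihilator.radical) : c = 0 := by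
  obtain ⟨N, hN⟩ := hI hx
  rw [Submodule.mem_annihilator_span_singleton, smul_eq_mul, mul_comm] at hN
  exact mem_nonZeroDivisors_iff_right.mp (pow_mem hxr N) c hN

theorem rank_eq_succ (hΨ : Function.Injective Ψ.mulVecLin) (hex : LinearMap.ker π = LinearMap.range Ψ.mulVecLin)
    (hI : LinearMap.range π ≠ ⊥) : n = m + 1 := by
  classical
  obtain ⟨x, hxI, hxr⟩ := exists_mem_nonZeroDivisors _ (annihilator_eq_bot_of_injective Ψ hΨ)
  let p : Fin n → R := fun i => π (Pi.single i 1)
  have hp : ∀ w : Fin n → R, π w = ∑ i, w i * p i := fun w => by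
    conv_lhs => rw [pi_eq_sum_univ' w, map_sum]
    exact Finset.sum_congr rfl fun i _ => by rw [map_smul, smul_eq_mul]
  by_contra hne
  refine hI (LinearMap.range_eq_bot.mpr (LinearMap.ext fun w => ?_))
  rw [hp, LinearMap.zero_apply]
  refine Finset.sum_eq_zero fun l _ => mul_eq_zero_of_right _ (vec_eq_zero_of_minor_kills hxI hxr ?_)
  rw [CAlgX.minorIdeal, Ideal.span_le]
  rintro _ ⟨⟨f, g⟩, rfl⟩
  show (Ψ.submatrix f g).det ∈ _
  refine ⟨2, ?_⟩
  rw [Submodule.mem_annihilator_span_singleton, smul_eq_mul, pow_two, mul_assoc]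
  by_cases hg : Function.Injective g
  swap
  · rw [mul_det_eq_zero_of_not_injective Ψ f g hg, zero_mul]
  by_cases hf : Function.Injective f
  swap
  · simp only [Function.Injective, not_forall] at hf
    obtain ⟨i, j, hij, hne'⟩ := hf
    rw [Matrix.det_zero_of_row_eq hne' (funext fun k => by simp [hij]), zero_mul]
  let eg := Equiv.ofBijective g (Finite.injective_iff_bijective.mp hg)
  let N := Ψ.submatrix f g
  -- entries outside the image of `f` are killed by the minor
  have hout : ∀ i, (∀ a, f a ≠ i) → N.det * p i = 0 := by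
    intro i hi
    obtain ⟨j, hji, hj⟩ : ∃ j, j ≠ i ∧ ∀ a, f a ≠ j := by
      by_contra hall
      push Not at hall
      have hs : (Finset.univ : Finset (Fin n)) ⊆ insert i (Finset.univ.image f) := fun j _ => by
        rcases eq_or_ne j i with h | h
        · simp [h]
        · obtain ⟨a, ha⟩ := hall j h
          simp [← ha]
      have := (Finset.card_le_card hs).trans (Finset.card_insert_le _ _)
      rw [Finset.card_image_of_injective _ hf] at this
      simp at this
      have := Fintype.card_le_of_injective f hf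
      simp at this
      have h4 : n ≠ m := fun e => by
        subst e
        have := (Finite.injective_iff_bijective.mp hf).2 i
        obtain ⟨a, ha⟩ := this
        exact hi a ha
      omega
    let v : Fin n → R := p j • Pi.single i 1 - p i • Pi.single j 1
    obtain ⟨u, hu⟩ : v ∈ LinearMap.range Ψ.mulVecLin := hex ▸ by
      rw [LinearMap.mem_ker, map_sub, map_smul, map_smul]
      show p j * p i - p i * p j = 0
      ring
    have h0 : N *ᵥ (u ∘ g) = 0 := by
      funext a
      have h1 := congrFun hu (f a)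
      simp [v, hi a, hj a] at h1
      show ∑ b, Ψ (f a) (g b) * u (g b) = 0
      rw [show (∑ b, Ψ (f a) (g b) * u (g b)) = ∑ b, Ψ (f a) b * u b from Equiv.sum_comp eg (fun b => Ψ (f a) b * u b)]
      exact h1
    have h2 := congrArg (Matrix.mulVec N.adjugate) h0
    rw [Matrix.mulVec_mulVec, Matrix.adjugate_mul, Matrix.mulVec_zero, Matrix.smul_mulVec, Matrix.one_mulVec] at h2
    have h3 : N.det • u = 0 := funext fun b => by
      have := congrFun h2 (eg.symm b)
      simpa [show g (eg.symm b) = b from eg.apply_symm_apply b] using this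
    have h4 : N.det • v = 0 := by rw [← hu, ← map_smul, h3, map_zero]
    have h5 := congrFun h4 j
    simp [v, hji] at h5
    exact h5
  by_cases hl : ∀ a, f a ≠ l
  · rw [hout l hl, mul_zero]
  push Not at hl
  obtain ⟨a, rfl⟩ := hl
  have hN : (N.det • (p ∘ f)) ᵥ* N = 0 := by
    funext b
    show ∑ a, N.det * p (f a) * Ψ (f a) (g b) = 0
    have h1 : π (Ψ.mulVecLin (Pi.single (g b) 1)) = 0 := LinearMap.mem_ker.mp (hex.ge ⟨_, rfl⟩)
    rw [hp, Matrix.mulVecLin_apply, Matrix.mulVec_single_one] at h1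
    have h2 : ∑ i, N.det * p i * Ψ i (g b) = 0 := by
      have := congrArg (fun z => N.det * z) h1
      simp only [Finset.mul_sum, mul_zero] at this
      exact (Finset.sum_congr rfl fun i _ => by simp [Matrix.col_apply]; ring).trans this
    rw [← h2, show (∑ a, N.det * p (f a) * Ψ (f a) (g b)) = ∑ i ∈ Finset.univ.image f, N.det * p i * Ψ i (g b) from
      (Finset.sum_image (f := fun i => N.det * p i * Ψ i (g b)) fun x _ y _ h => hf h).symm]
    refine Finset.sum_subset (Finset.subset_univ _) fun i _ hi => ?_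
    rw [hout i (fun a e => hi (by simp [← e])), zero_mul]
  have h2 := congrArg (fun z => z ᵥ* N.adjugate) hN
  simp only [Matrix.vecMul_vecMul, Matrix.mul_adjugate, Matrix.zero_vecMul, Matrix.vecMul_smul, Matrix.vecMul_one] at h2
  have h3 := congrFun h2 a
  simp only [Pi.smul_apply, smul_eq_mul, Function.comp_apply, Pi.zero_apply] at h3
  exact h3

theorem exists_pair (hΨ : Function.Injective Ψ.mulVecLin) (hex : LinearMap.ker π = LinearMap.range Ψ.mulVecLin) :
    ∃ x y : R, x ∈ CAlgX.minorIdeal Ψ m ∧ y ∈ CAlgX.minorIdeal Ψ m ∧ x ∈ nonZeroDivisors R ∧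
      ∀ w, y * w ∈ Ideal.span {x} → w ∈ Ideal.span {x} := by
  classical
  obtain ⟨x, hxI, hxr⟩ := exists_mem_nonZeroDivisors _ (annihilator_eq_bot_of_injective Ψ hΨ)
  let q := Ideal.Quotient.mk (Ideal.span {x})
  have hinj : Function.Injective (Ψ.map q).mulVecLin := by
    rw [injective_iff_map_eq_zero]
    intro u hu
    choose u' hu' using fun i => Ideal.Quotient.mk_surjective (I := Ideal.span {x}) (u i)
    have h1 : ∀ i, (Ψ *ᵥ u') i ∈ Ideal.span {x} := fun i => by
      refine Ideal.Quotient.eq_zero_iff_mem.mp ?_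
      show q ((Ψ *ᵥ u') i) = 0
      rw [RingHom.map_mulVec, show q ∘ u' = u from funext hu']
      exact congrFun hu i
    choose v hv using fun i => Ideal.mem_span_singleton'.mp (h1 i)
    have hv' : Ψ *ᵥ u' = x • v := funext fun i => by rw [← hv i, Pi.smul_apply, smul_eq_mul, mul_comm]
    have h2 : x • π v = 0 := by
      rw [← map_smul, ← hv']
      exact LinearMap.mem_ker.mp (hex.ge ⟨u', rfl⟩)
    have h3 : v ∈ LinearMap.range Ψ.mulVecLin := hex ▸ LinearMap.mem_ker.mpr
      (mem_nonZeroDivisors_iff_right.mp hxr _ (by rwa [mul_comm]))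
    obtain ⟨w, hw⟩ := h3
    have h4 : u' = x • w := hΨ (by rw [map_smul, hw]; exact hv')
    funext i
    rw [← hu' i, h4]
    exact Ideal.Quotient.eq_zero_iff_mem.mpr (Ideal.mem_span_singleton'.mpr ⟨w i, mul_comm _ _⟩)
  obtain ⟨y₀, hy₀, hy₀r⟩ := exists_mem_nonZeroDivisors _ (annihilator_eq_bot_of_injective (Ψ.map q) hinj)
  have hmap : CAlgX.minorIdeal (Ψ.map q) m ≤ (CAlgX.minorIdeal Ψ m).map q := by
    rw [CAlgX.minorIdeal, Ideal.span_le]
    rintro _ ⟨⟨f, g⟩, rfl⟩
    show ((Ψ.map q).submatrix f g).det ∈ _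
    rw [Matrix.submatrix_map, ← RingHom.mapMatrix_apply, ← RingHom.map_det]
    exact Ideal.mem_map_of_mem q (Ideal.subset_span ⟨(f, g), rfl⟩)
  obtain ⟨y, hy, rfl⟩ := (Ideal.mem_map_iff_of_surjective q Ideal.Quotient.mk_surjective).mp (hmap hy₀)
  refine ⟨x, y, hxI, hy, hxr, fun w hw => ?_⟩
  refine Ideal.Quotient.eq_zero_iff_mem.mp (mem_nonZeroDivisors_iff_right.mp hy₀r _ ?_)
  show q w * q y = 0
  rw [← map_mul, mul_comm]
  exact Ideal.Quotient.eq_zero_iff_mem.mpr hw

theorem two_le_idealDepth (hΨ : Function.Injective Ψ.mulVecLin) (hex : LinearMap.ker π = LinearMap.range Ψ.mulVecLin) :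
    2 ≤ LocCoh.idealDepth (CAlgX.minorIdeal Ψ m) R := by
  obtain ⟨x, y, hxI, hyI, hxr, hy⟩ := exists_pair Ψ π hΨ hex
  have h : RingTheory.Sequence.IsWeaklyRegular R [x, y] := by
    rw [RingTheory.Sequence.isWeaklyRegular_cons_iff, RingTheory.Sequence.isWeaklyRegular_singleton_iff]
    refine ⟨fun a b e => ?_, ?_⟩
    · simp only [smul_eq_mul] at e
      exact sub_eq_zero.mp (mem_nonZeroDivisors_iff_right.mp hxr _ (by rw [sub_mul, mul_comm a, mul_comm b, e, sub_self]))
    · refine (isSMulRegular_quotient_iff_mem_of_smul_mem _ y).mpr fun w hw => ?_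
      rw [← Submodule.ideal_span_singleton_smul, smul_eq_mul, Ideal.mul_top] at hw ⊢
      exact hy w hw
  exact_mod_cast DepthLib.length_le_idealDepth h (by simp [hxI, hyI])

theorem exists_factor {Ψ : Matrix (Fin (m + 1)) (Fin m) R} {π : (Fin (m + 1) → R) →ₗ[R] R}
    (hΨ : Function.Injective Ψ.mulVecLin) (hex : LinearMap.ker π = LinearMap.range Ψ.mulVecLin) :
    ∃ a, a ∈ nonZeroDivisors R ∧ LinearMap.range π = Ideal.span {a} * CAlgX.minorIdeal Ψ m := by
  classical
  obtain ⟨x, y, hxI, hyI, hxr, hy⟩ := exists_pair Ψ π hΨ hex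
  rw [minorIdeal_eq_span] at hxI hyI ⊢
  let Δ := signedMinor Ψ
  let p : Fin (m + 1) → R := fun i => π (Pi.single i 1)
  have hcross : ∀ i j, p j * Δ i = p i * Δ j := by
    intro i j
    rcases eq_or_ne i j with rfl | hij
    · rfl
    let v : Fin (m + 1) → R := p j • Pi.single i 1 - p i • Pi.single j 1
    obtain ⟨u, hu⟩ : v ∈ LinearMap.range Ψ.mulVecLin := hex ▸ by
      rw [LinearMap.mem_ker, map_sub, map_smul, map_smul]
      show p j * p i - p i * p j = 0
      ring
    have h := sum_signedMinor_mulVec Ψ u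
    rw [show Ψ *ᵥ u = v from hu] at h
    simp [v, mul_sub, Finset.sum_sub_distrib, Pi.single_apply, mul_ite] at h
    linear_combination h
  obtain ⟨c, hc⟩ := (Submodule.mem_span_range_iff_exists_fun R).mp hxI
  obtain ⟨d, hd⟩ := (Submodule.mem_span_range_iff_exists_fun R).mp hyI
  simp only [smul_eq_mul] at hc hd
  let b := ∑ i, c i * p i
  let b' := ∑ i, d i * p i
  have hb : ∀ j, b * Δ j = x * p j := fun j => by
    simp only [b, Finset.sum_mul, ← hc, mul_assoc]
    exact Finset.sum_congr rfl fun i _ => by rw [← hcross i j]; ring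
  have hb' : ∀ j, b' * Δ j = y * p j := fun j => by
    simp only [b', Finset.sum_mul, ← hd, mul_assoc]
    exact Finset.sum_congr rfl fun i _ => by rw [← hcross i j]; ring
  have hby : b * y = b' * x := by
    refine sub_eq_zero.mp (mem_nonZeroDivisors_iff_right.mp hxr _ ?_)
    have e : (b * y - b' * x) * ∑ i, c i * Δ i = 0 := by
      rw [Finset.mul_sum]
      refine Finset.sum_eq_zero fun i _ => ?_
      linear_combination (c i * y) * hb i - (c i * x) * hb' i
    rwa [hc] at e
  obtain ⟨a, ha⟩ := Ideal.mem_span_singleton'.mp (hy b (Ideal.mem_span_singleton'.mpr ⟨b', by rw [← hby, mul_comm]⟩))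
  have hpa : ∀ j, p j = a * Δ j := fun j => by
    refine sub_eq_zero.mp (mem_nonZeroDivisors_iff_right.mp hxr _ ?_)
    have := hb j
    rw [← ha] at this
    linear_combination -this
  have hπ : π = Fintype.linearCombination R (fun i => a * Δ i) := LinearMap.ext fun w => by
    conv_lhs => rw [pi_eq_sum_univ' w, map_sum]
    rw [Fintype.linearCombination_apply]
    exact Finset.sum_congr rfl fun i _ => by rw [map_smul]; exact congrArg _ (hpa i)
  refine ⟨a, mem_nonZeroDivisors_iff_right.mpr fun e he => ?_, ?_⟩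
  · refine mem_nonZeroDivisors_iff_right.mp hxr e ?_
    rw [← hc, Finset.mul_sum]
    refine Finset.sum_eq_zero fun i _ => ?_
    have h : (Pi.single i e : Fin (m + 1) → R) ∈ LinearMap.range Ψ.mulVecLin := hex ▸ by
      rw [LinearMap.mem_ker, show (Pi.single i e : Fin (m + 1) → R) = e • Pi.single i 1 by
        rw [← Pi.single_smul, smul_eq_mul, mul_one], map_smul]
      show e * p i = 0
      rw [hpa, ← mul_assoc, he, zero_mul]
    obtain ⟨u, hu⟩ := h
    have h2 := sum_signedMinor_mulVec Ψ u
    rw [show Ψ *ᵥ u = Pi.single i e from hu] at h2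
    simp [Pi.single_apply, mul_ite] at h2
    linear_combination c i * h2
  · rw [hπ, range_linearCombination]

end Groth.Agent.McCoy3
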