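import Groth.Prelude.Def_CAlgX
import Mathlib.LinearAlgebra.Matrix.Adjugate
import Mathlib.LinearAlgebra.Matrix.ToLin
import Mathlib.RingTheory.Ideal.AssociatedPrime.Finiteness

/-!
McCoy's theorem on injective matrices.
-/

set_option autoImplicit false

universe u

namespace Groth.Agent.McCoy3

variable {R : Type u} [CommRing R]

theorem mul_det_eq_zero_of_not_injective {m r : ℕ} {ι : Type} (M : Matrix ι (Fin m) R) (f : Fin r → ι)
    (g : Fin r → Fin m) (hg : ¬ Function.Injective g) : (M.submatrix f g).det = 0 := by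
  simp only [Function.Injective, not_forall] at hg
  obtain ⟨i, j, hij, hne⟩ := hg
  exact Matrix.det_zero_of_column_eq hne fun k => by simp [hij]

theorem minorIdeal_eq_bot_of_lt {m n r : ℕ} (M : Matrix (Fin n) (Fin m) R) (h : m < r) :
    CAlgX.minorIdeal M r = ⊥ := by
  rw [CAlgX.minorIdeal, Ideal.span_eq_bot]
  rintro _ ⟨⟨f, g⟩, rfl⟩
  refine mul_det_eq_zero_of_not_injective M f g fun hg => ?_
  have := Fintype.card_le_of_injective g hg
  simp at this
  omega

theorem minorIdeal_zero {m n : ℕ} (M : Matrix (Fin n) (Fin m) R) : CAlgX.minorIdeal M 0 = ⊤ :=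
  (Ideal.eq_top_iff_one _).mpr (Ideal.subset_span ⟨⟨Fin.elim0, Fin.elim0⟩, Matrix.det_fin_zero⟩)

theorem mem_annihilator_minorIdeal {m n r : ℕ} {M : Matrix (Fin n) (Fin m) R} {a : R}
    (h : ∀ (f : Fin r → Fin n) (g : Fin r → Fin m), a * (M.submatrix f g).det = 0) :
    a ∈ (CAlgX.minorIdeal M r).annihilator := by
  rw [Submodule.mem_annihilator]
  intro x hx
  rw [CAlgX.minorIdeal] at hx
  induction hx using Submodule.span_induction with
  | mem y hy => obtain ⟨⟨f, g⟩, rfl⟩ := hy; exact h f g
  | zero => exact smul_zero _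
  | add y z _ _ hy hz => rw [smul_add, hy, hz, add_zero]
  | smul c y _ hy => rw [smul_comm, hy, smul_zero]

theorem annihilator_eq_bot_of_injective {m n : ℕ} (M : Matrix (Fin n) (Fin m) R)
    (hM : Function.Injective (Matrix.mulVecLin M)) : (CAlgX.minorIdeal M m).annihilator = ⊥ := by
  classical
  rw [eq_bot_iff]
  intro a ha
  suffices h : ∀ k, k ≤ m → ∀ (f : Fin k → Fin n) (g : Fin k → Fin m), a * (M.submatrix f g).det = 0 by
    simpa using h 0 (Nat.zero_le _) Fin.elim0 Fin.elim0
  intro k hk
  refine Nat.decreasingInduction' (P := fun k => ∀ (f : Fin k → Fin n) (g : Fin k → Fin m),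
    a * (M.submatrix f g).det = 0) (fun r hr _ ih f g => ?_) hk (fun f g =>
      (Submodule.mem_annihilator.mp ha) _ (Ideal.subset_span ⟨⟨f, g⟩, rfl⟩))
  obtain ⟨j₀, hj₀⟩ : ∃ j₀, ∀ i, g i ≠ j₀ := by
    by_contra hall
    push Not at hall
    have := Fintype.card_le_of_surjective g hall
    simp at this
    omega
  let g' : Fin (r + 1) → Fin m := Fin.cons j₀ g
  let v : Fin m → R := ∑ k, Pi.single (g' k) (a * ((-1) ^ (k : ℕ) * (M.submatrix f (g' ∘ k.succAbove)).det))
  have hv : Matrix.mulVecLin M v = 0 := by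
    funext i
    have h := ih (Fin.cons i f) g'
    rw [Matrix.det_succ_row_zero, Finset.mul_sum] at h
    simp only [v, map_sum, Finset.sum_apply, Pi.zero_apply, Matrix.mulVecLin_apply, Matrix.mulVec_single,
      MulOpposite.smul_eq_mul_unop, MulOpposite.unop_op, Pi.smul_apply, Matrix.col_apply]
    rw [← h]
    refine Finset.sum_congr rfl fun k _ => ?_
    simp only [Matrix.submatrix_apply, Fin.cons_zero, Matrix.submatrix_submatrix, Fin.cons_succ, Function.comp_def]
    ring
  have h0 : v j₀ = 0 := by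
    rw [hM (hv.trans (map_zero (Matrix.mulVecLin M)).symm)]
    rfl
  simp only [v, Finset.sum_apply] at h0
  rw [Fin.sum_univ_succ, Finset.sum_eq_zero fun k _ => ?_] at h0
  · simpa [g', Fin.succAbove_zero, Function.comp_def] using h0
  · exact Pi.single_eq_of_ne (by simpa [g'] using (hj₀ k).symm) _

theorem injective_of_annihilator_eq_bot {m n : ℕ} (M : Matrix (Fin n) (Fin m) R)
    (h : (CAlgX.minorIdeal M m).annihilator = ⊥) : Function.Injective (Matrix.mulVecLin M) := by
  classical
  rw [injective_iff_map_eq_zero]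
  intro x hx
  funext j
  have hj : x j ∈ (CAlgX.minorIdeal M m).annihilator := by
    refine mem_annihilator_minorIdeal fun f g => ?_
    by_cases hg : Function.Injective g
    · let e := Equiv.ofBijective g (Finite.injective_iff_bijective.mp hg)
      let N := M.submatrix f g
      have hN : N.mulVec (x ∘ g) = 0 := by
        funext i
        show ∑ k, M (f i) (g k) * x (g k) = 0
        rw [show (∑ k, M (f i) (g k) * x (g k)) = ∑ l, M (f i) l * x l from Equiv.sum_comp e (fun l => M (f i) l * x l)]
        exact congrFun hx (f i)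
      have h2 := congrArg (Matrix.mulVec N.adjugate) hN
      rw [Matrix.mulVec_mulVec, Matrix.adjugate_mul, Matrix.mulVec_zero, Matrix.smul_mulVec, Matrix.one_mulVec] at h2
      have h3 := congrFun h2 (e.symm j)
      have e1 : g (e.symm j) = j := e.apply_symm_apply j
      simp only [Pi.smul_apply, Function.comp_apply, e1, smul_eq_mul, Pi.zero_apply] at h3
      rw [mul_comm]
      exact h3
    · rw [mul_det_eq_zero_of_not_injective M f g hg, mul_zero]
  rwa [h, Submodule.mem_bot] at hj

theorem matrixRank_eq {m n : ℕ} (M : Matrix (Fin n) (Fin m) R) (h : CAlgX.minorIdeal M m ≠ ⊥) :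
    CAlgX.matrixRank M = m := by
  have hb : ∀ r ∈ {r : ℕ | CAlgX.minorIdeal M r ≠ ⊥}, r ≤ m := fun r hr => by
    by_contra hlt
    exact hr (minorIdeal_eq_bot_of_lt M (not_le.mp hlt))
  exact le_antisymm (csSup_le' hb) (le_csSup ⟨m, hb⟩ h)

theorem injective_iff [Nontrivial R] {m n : ℕ} (M : Matrix (Fin n) (Fin m) R) :
    Function.Injective (Matrix.mulVecLin M) ↔
      CAlgX.matrixRank M = m ∧ (CAlgX.detIdeal M).annihilator = ⊥ := by
  constructor
  · intro h
    have ha := annihilator_eq_bot_of_injective M h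
    have hr : CAlgX.matrixRank M = m := matrixRank_eq M fun e => by
      rw [e, Submodule.annihilator_bot] at ha
      exact top_ne_bot ha
    exact ⟨hr, by rw [CAlgX.detIdeal, hr]; exact ha⟩
  · rintro ⟨hr, ha⟩
    rw [CAlgX.detIdeal, hr] at ha
    exact injective_of_annihilator_eq_bot M ha

theorem exists_mem_nonZeroDivisors [IsNoetherianRing R] (I : Ideal R) (h : I.annihilator = ⊥) :
    ∃ a ∈ I, a ∈ nonZeroDivisors R := by
  by_contra hc
  push Not at hc
  have hsub : (I : Set R) ⊆ ⋃ p ∈ associatedPrimes R R, (p : Set R) := by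
    rw [biUnion_associatedPrimes_eq_compl_nonZeroDivisors]
    exact fun x hx => hc x hx
  obtain ⟨q, hq, hle⟩ := (Ideal.subset_union_prime_finite (associatedPrimes.finite R R) (f := id) ⊥ ⊥
    (fun p hp _ _ => hp.1)).1 hsub
  obtain ⟨hp, y, hy⟩ := isAssociatedPrime_iff.1 hq
  have hy0 : y = 0 := by
    have : y ∈ I.annihilator := Submodule.mem_annihilator.mpr fun x hx => by
      have h2 : x ∈ id q := hle hx
      rw [id, hy, Submodule.mem_colon_singleton, Submodule.mem_bot, smul_eq_mul] at h2
      rw [smul_eq_mul, mul_comm]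
      exact h2
    rwa [h, Submodule.mem_bot] at this
  exact hp.ne_top (by rw [hy, hy0]; simp)

end Groth.Agent.McCoy3
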