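import Groth.Agent.Lib.McCoy3.Basic
import Mathlib.RingTheory.Spectrum.Prime.FreeLocus
import Mathlib.RingTheory.Finiteness.Projective
import Mathlib.RingTheory.Localization.FractionRing
import Mathlib.RingTheory.Localization.Submodule

/-!
Finite free resolutions over rings in which every ideal with trivial annihilator is the unit ideal.
-/

set_option autoImplicit false
set_option linter.style.haveILetI false

universe u v

open scoped Matrix

namespace Groth.Agent.McCoy3

variable {Q : Type u} [CommRing Q] (hQ : ∀ I : Ideal Q, I.annihilator = ⊥ → I = ⊤)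

theorem exists_leftInverse_of_fg (hQ' : ∀ I : Ideal Q, I.FG → I.annihilator = ⊥ → I = ⊤) {a b : ℕ}
    (f : (Fin a → Q) →ₗ[Q] (Fin b → Q)) (hf : Function.Injective f) :
    ∃ h : (Fin b → Q) →ₗ[Q] (Fin a → Q), h ∘ₗ f = LinearMap.id := by
  classical
  let M := LinearMap.toMatrix' f
  have hM : ∀ x, M *ᵥ x = f x := fun x => LinearMap.toMatrix'_mulVec f x
  let S : Ideal Q :=
    { carrier := {d | ∃ h : (Fin b → Q) →ₗ[Q] (Fin a → Q), ∀ x, h (f x) = d • x}
      add_mem' := by
        rintro x y ⟨h, hh⟩ ⟨k, hk⟩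
        exact ⟨h + k, fun z => by rw [LinearMap.add_apply, hh, hk, add_smul]⟩
      zero_mem' := ⟨0, fun x => by rw [LinearMap.zero_apply, zero_smul]⟩
      smul_mem' := by
        rintro c x ⟨h, hh⟩
        exact ⟨c • h, fun z => by rw [LinearMap.smul_apply, hh, smul_smul, smul_eq_mul]⟩ }
  have hS : CAlgX.minorIdeal M a ≤ S := by
    rw [CAlgX.minorIdeal, Ideal.span_le]
    rintro _ ⟨⟨r, g⟩, rfl⟩
    by_cases hg : Function.Injective g
    · let e := Equiv.ofBijective g (Finite.injective_iff_bijective.mp hg)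
      let N := M.submatrix r g
      refine ⟨(LinearMap.funLeft Q Q e.symm).comp ((Matrix.mulVecLin N.adjugate).comp (LinearMap.funLeft Q Q r)),
        fun x => funext fun j => ?_⟩
      have hN : N *ᵥ (x ∘ g) = (f x) ∘ r := by
        funext i
        show ∑ k, M (r i) (g k) * x (g k) = f x (r i)
        rw [show (∑ k, M (r i) (g k) * x (g k)) = ∑ l, M (r i) l * x l from Equiv.sum_comp e (fun l => M (r i) l * x l),
          ← hM x]
        rfl
      show (N.adjugate *ᵥ ((f x) ∘ r)) (e.symm j) = N.det * x j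
      rw [← hN, Matrix.mulVec_mulVec, Matrix.adjugate_mul, Matrix.smul_mulVec, Matrix.one_mulVec]
      show N.det * x (g (e.symm j)) = _
      rw [show g (e.symm j) = j from e.apply_symm_apply j]
    · refine ⟨0, fun x => ?_⟩
      show _ = (M.submatrix r g).det • x
      rw [mul_det_eq_zero_of_not_injective M r g hg, zero_smul]
      rfl
  have hfg : (CAlgX.minorIdeal M a).FG := Submodule.fg_span (Set.finite_range _)
  have h1 : CAlgX.minorIdeal M a = ⊤ := hQ' _ hfg (annihilator_eq_bot_of_injective M (by
    intro x y h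
    simp only [Matrix.mulVecLin_apply, hM] at h
    exact hf h))
  obtain ⟨h, hh⟩ := hS (h1 ▸ Submodule.mem_top (x := (1 : Q)))
  exact ⟨h, LinearMap.ext fun x => by simpa using hh x⟩

include hQ in
theorem exists_leftInverse {a b : ℕ} (f : (Fin a → Q) →ₗ[Q] (Fin b → Q)) (hf : Function.Injective f) :
    ∃ h : (Fin b → Q) →ₗ[Q] (Fin a → Q), h ∘ₗ f = LinearMap.id :=
  exists_leftInverse_of_fg (fun I _ => hQ I) f hf

/-- `Q^b × Q^a ≅ Q^(b+a)`. -/
noncomputable def appendEquiv (Q : Type u) [CommRing Q] (b a : ℕ) :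
    ((Fin b → Q) × (Fin a → Q)) ≃ₗ[Q] (Fin (b + a) → Q) :=
  (LinearEquiv.sumArrowLequivProdArrow (Fin b) (Fin a) Q Q).symm.trans (LinearEquiv.funCongrLeft Q Q finSumFinEquiv.symm)

include hQ in
theorem exists_retraction {P : Type v} [AddCommGroup P] [Module Q P] [Module.Finite Q P] [Module.Projective Q P]
    {b : ℕ} (f : P →ₗ[Q] (Fin b → Q)) (hf : Function.Injective f) :
    ∃ ρ : (Fin b → Q) →ₗ[Q] P, ∀ x, ρ (f x) = x := by
  obtain ⟨a, r, s, -, -, hrs⟩ := Module.Finite.exists_comp_eq_id_of_projective Q P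
  have hrs' : ∀ x, r (s x) = x := fun x => LinearMap.congr_fun hrs x
  let F := (appendEquiv Q b a).toLinearMap.comp (LinearMap.prod (f.comp r) (LinearMap.id - s.comp r))
  have hF : Function.Injective F := by
    rw [injective_iff_map_eq_zero]
    intro y hy
    have hy' : (f (r y), y - s (r y)) = (0, 0) := (appendEquiv Q b a).injective (hy.trans (map_zero _).symm)
    have h1 : f (r y) = 0 := congrArg Prod.fst hy'
    have h2 : y - s (r y) = 0 := congrArg Prod.snd hy'
    rw [(injective_iff_map_eq_zero f).mp hf _ h1, map_zero, sub_zero] at h2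
    exact h2
  obtain ⟨h, hh⟩ := exists_leftInverse hQ F hF
  refine ⟨r.comp (h.comp ((appendEquiv Q b a).toLinearMap.comp (LinearMap.inl Q _ _))), fun x => ?_⟩
  have e : F (s x) = appendEquiv Q b a (f x, 0) := by
    show appendEquiv Q b a (f (r (s x)), s x - s (r (s x))) = _
    rw [hrs', sub_self]
  show r (h (appendEquiv Q b a (f x, 0))) = x
  rw [← e, show h (F (s x)) = s x from LinearMap.congr_fun hh _, hrs']

include hQ in
theorem projective_of_freeResolution : ∀ (e : ℕ) (n : ℕ → ℕ) (A : (i : ℕ) → Matrix (Fin (n i)) (Fin (n (i + 1))) Q)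
    (K : Type u) [AddCommGroup K] [Module Q K] (π : (Fin (n 0) → Q) →ₗ[Q] K), Function.Surjective π →
    LinearMap.ker π = LinearMap.range (A 0).mulVecLin →
    (∀ i, i + 2 ≤ e + 1 → LinearMap.ker (A i).mulVecLin = LinearMap.range (A (i + 1)).mulVecLin) →
    LinearMap.ker (A e).mulVecLin = ⊥ →
    Module.Projective Q K ∧ ∃ d : ℕ, ∀ p, Module.rankAtStalk (R := Q) K p = d := by
  intro e
  induction e with
  | zero =>
    intro n A K _ _ π hπ h0 _ hlast
    exact step hQ π hπ h0 (LinearEquiv.ofInjective _ (LinearMap.ker_eq_bot.mp hlast))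
  | succ e ih =>
    intro n A K _ _ π hπ h0 hA hlast
    have h1 : LinearMap.ker (A 0).mulVecLin.rangeRestrict = LinearMap.range (A 1).mulVecLin := by
      rw [LinearMap.ker_rangeRestrict]; exact hA 0 (by omega)
    obtain ⟨hP, d, hd⟩ := ih (fun i => n (i + 1)) (fun i => A (i + 1)) _ (A 0).mulVecLin.rangeRestrict
      (LinearMap.surjective_rangeRestrict _) h1 (fun i hi => hA (i + 1) (by omega)) hlast
    haveI := hP
    exact step' hQ π hπ h0 d hd
where
  step' (hQ : ∀ I : Ideal Q, I.annihilator = ⊥ → I = ⊤) {b : ℕ} {L : Submodule Q (Fin b → Q)} [Module.Finite Q L]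
      [Module.Projective Q L] {K : Type u} [AddCommGroup K] [Module Q K] (π : (Fin b → Q) →ₗ[Q] K)
      (hπ : Function.Surjective π) (h0 : LinearMap.ker π = L) (d : ℕ) (hd : ∀ p, Module.rankAtStalk (R := Q) L p = d) :
      Module.Projective Q K ∧ ∃ d : ℕ, ∀ p, Module.rankAtStalk (R := Q) K p = d := by
    obtain ⟨ρ, hρ⟩ := exists_retraction hQ L.subtype L.injective_subtype
    have hρ' : ∀ x : L, ρ x = x := hρ
    let φ : (Fin b → Q) →ₗ[Q] L × K := ρ.prod π
    have hker : ∀ z, π z = 0 → z ∈ L := fun z hz => h0 ▸ hz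
    have hφ : Function.Bijective φ := by
      constructor
      · rw [injective_iff_map_eq_zero]
        intro z hz
        have e1 : ρ z = 0 := congrArg Prod.fst hz
        have e2 : π z = 0 := congrArg Prod.snd hz
        have := hρ' ⟨z, hker z e2⟩
        rw [e1] at this
        exact (congrArg Subtype.val this).symm
      · rintro ⟨l, k⟩
        obtain ⟨z, rfl⟩ := hπ k
        refine ⟨z - (ρ z : Fin b → Q) + l, ?_⟩
        have e1 : π (ρ z : Fin b → Q) = 0 := h0.ge (ρ z).2
        have e2 : π (l : Fin b → Q) = 0 := h0.ge l.2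
        refine Prod.ext ?_ ?_
        · show ρ _ = l
          rw [map_add, map_sub, hρ', hρ', sub_self, zero_add]
        · show π _ = π z
          rw [map_add, map_sub, e1, e2, sub_zero, add_zero]
    let E := LinearEquiv.ofBijective φ hφ
    haveI : Module.Projective Q (L × K) := Module.Projective.of_equiv E
    haveI : Module.Projective Q K := Module.Projective.of_split (M := L × K) (LinearMap.inr Q L K)
      (LinearMap.snd Q L K) (LinearMap.ext fun _ => rfl)
    haveI : Module.Finite Q K := Module.Finite.of_surjective π hπ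
    refine ⟨inferInstance, b - d, fun p => ?_⟩
    haveI : Nontrivial Q := p.nontrivial
    have h := congrFun (Module.rankAtStalk_eq_of_equiv (R := Q) E) p
    rw [Module.rankAtStalk_prod, Pi.add_apply, hd, Module.rankAtStalk_eq_finrank_of_free, Module.finrank_fin_fun] at h
    show _ = b - d
    simp only [Pi.natCast_apply, Nat.cast_id] at h
    omega
  step (hQ : ∀ I : Ideal Q, I.annihilator = ⊥ → I = ⊤) {b a : ℕ} {L : Submodule Q (Fin b → Q)}
      {K : Type u} [AddCommGroup K] [Module Q K] (π : (Fin b → Q) →ₗ[Q] K)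
      (hπ : Function.Surjective π) (h0 : LinearMap.ker π = L) (eL : (Fin a → Q) ≃ₗ[Q] L) :
      Module.Projective Q K ∧ ∃ d : ℕ, ∀ p, Module.rankAtStalk (R := Q) K p = d := by
    haveI : Module.Finite Q L := Module.Finite.equiv eL
    haveI : Module.Free Q L := Module.Free.of_equiv eL
    refine projective_of_freeResolution.step' hQ π hπ h0 a fun p => ?_
    haveI : Nontrivial Q := p.nontrivial
    rw [Module.rankAtStalk_eq_finrank_of_free, ← eL.finrank_eq, Module.finrank_fin_fun]
    rfl

theorem annihilator_eq_bot_of_rank_pos (J : Ideal Q) [Module.Finite Q J] [Module.Projective Q J] {d : ℕ} (hd0 : d ≠ 0)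
    (hd : ∀ p, Module.rankAtStalk (R := Q) J p = d) : J.annihilator = ⊥ := by
  rw [eq_bot_iff]
  intro x hx
  by_contra hx0
  have hne : (Submodule.span Q {x}).annihilator ≠ ⊤ := fun e => hx0 (by
    have := (Submodule.mem_annihilator_span_singleton x 1).mp (e ▸ Submodule.mem_top)
    simpa using this)
  obtain ⟨m, hm, hle⟩ := Ideal.exists_le_maximal _ hne
  haveI := hm
  let p : PrimeSpectrum Q := ⟨m, hm.isPrime⟩
  haveI : Module.Free (Localization.AtPrime p.asIdeal) (LocalizedModule p.asIdeal.primeCompl J) := by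
    have : p ∈ Module.freeLocus Q J := by rw [Module.freeLocus_eq_univ]; trivial
    exact Module.mem_freeLocus.mp this
  haveI : Nontrivial (LocalizedModule p.asIdeal.primeCompl J) := Module.nontrivial_of_finrank_pos
    (R := Localization.AtPrime p.asIdeal) (by
      have := hd p
      rw [Module.rankAtStalk] at this
      omega)
  have hkill : ∀ z : LocalizedModule p.asIdeal.primeCompl J, algebraMap Q (Localization.AtPrime p.asIdeal) x • z = 0 := by
    intro z
    rw [algebraMap_smul]
    induction z using LocalizedModule.induction_on with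
    | _ j s =>
      rw [LocalizedModule.smul'_mk]
      rw [show x • j = 0 from Subtype.ext ((Submodule.mem_annihilator.mp hx) _ j.2)]
      exact LocalizedModule.zero_mk s
  let b := Module.Free.chooseBasis (Localization.AtPrime p.asIdeal) (LocalizedModule p.asIdeal.primeCompl J)
  obtain ⟨i⟩ : Nonempty (Module.Free.ChooseBasisIndex (Localization.AtPrime p.asIdeal)
      (LocalizedModule p.asIdeal.primeCompl J)) := b.index_nonempty
  have h0 : algebraMap Q (Localization.AtPrime p.asIdeal) x = 0 := by
    have := congrArg (fun z => b.repr z i) (hkill (b i))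
    simpa only [map_smul, Module.Basis.repr_self, Finsupp.smul_apply, Finsupp.single_eq_same, smul_eq_mul, mul_one, map_zero,
      Finsupp.zero_apply] using this
  obtain ⟨s, hs⟩ := (IsLocalization.map_eq_zero_iff p.asIdeal.primeCompl _ x).mp h0
  exact s.2 (hle ((Submodule.mem_annihilator_span_singleton x (s : Q)).mpr (by rw [smul_eq_mul]; exact hs)))

theorem eq_top_of_annihilator_eq_bot {R : Type u} [CommRing R] [IsNoetherianRing R] (I : Ideal (FractionRing R))
    (h : I.annihilator = ⊥) : I = ⊤ := by
  haveI : IsNoetherianRing (FractionRing R) := IsLocalization.isNoetherianRing (nonZeroDivisors R) _ inferInstance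
  obtain ⟨a, ha, hr⟩ := exists_mem_nonZeroDivisors I h
  obtain ⟨⟨r, s⟩, hrs⟩ := IsLocalization.surj (nonZeroDivisors R) a
  refine Ideal.eq_top_of_isUnit_mem I (I.mul_mem_right (algebraMap R _ s) ha) ?_
  change a * algebraMap R _ (s : R) = algebraMap R _ r at hrs
  rw [hrs]
  refine IsLocalization.map_units _ (⟨r, mem_nonZeroDivisors_iff_right.mpr fun y hy => ?_⟩ : nonZeroDivisors R)
  refine IsFractionRing.injective R (FractionRing R) ?_
  rw [map_zero]
  have hs : IsUnit (algebraMap R (FractionRing R) (s : R)) := IsLocalization.map_units _ s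
  refine (mem_nonZeroDivisors_iff_right.mp (mul_mem hr (hs.mem_nonZeroDivisors))) _ ?_
  rw [hrs, ← map_mul, hy, map_zero]

variable {R : Type u} [CommRing R]

theorem map_mulVec' {m n : Type} [Fintype n] (S : Type u) [CommRing S] [Algebra R S] (M : Matrix m n R) (w : n → R) :
    M.map (algebraMap R S) *ᵥ (algebraMap R S ∘ w) = algebraMap R S ∘ (M *ᵥ w) :=
  funext fun i => (RingHom.map_mulVec _ M w i).symm

theorem exists_num {a : ℕ} (z : Fin a → FractionRing R) :
    ∃ (s : nonZeroDivisors R) (w : Fin a → R), algebraMap R (FractionRing R) ∘ w = algebraMap R (FractionRing R) s • z := by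
  obtain ⟨s, hs⟩ := IsLocalization.exist_integer_multiples_of_finite (nonZeroDivisors R) z
  choose w hw using hs
  exact ⟨s, w, funext fun i => (hw i).trans (Algebra.smul_def _ _)⟩

theorem ker_map_eq_range {a b c : ℕ} (M : Matrix (Fin a) (Fin b) R) (N : Matrix (Fin b) (Fin c) R)
    (h : LinearMap.ker M.mulVecLin = LinearMap.range N.mulVecLin) :
    LinearMap.ker (M.map (algebraMap R (FractionRing R))).mulVecLin =
      LinearMap.range (N.map (algebraMap R (FractionRing R))).mulVecLin := by
  refine le_antisymm (fun z hz => ?_) ?_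
  · obtain ⟨s, w, hw⟩ := exists_num z
    have h2 : M *ᵥ w = 0 := by
      funext i
      refine IsFractionRing.injective R (FractionRing R) ?_
      have := congrFun ((map_mulVec' (FractionRing R) M w).symm.trans
        ((congrArg _ hw).trans ((Matrix.mulVec_smul _ _ _).trans (by rw [show M.map _ *ᵥ z = 0 from hz, smul_zero])))) i
      simpa using this
    obtain ⟨u, hu⟩ : w ∈ LinearMap.range N.mulVecLin := h ▸ h2
    obtain ⟨t, ht⟩ := IsLocalization.map_units (FractionRing R) s
    refine ⟨(↑t⁻¹ : FractionRing R) • (algebraMap R (FractionRing R) ∘ u), ?_⟩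
    rw [map_smul, Matrix.mulVecLin_apply, map_mulVec', show N *ᵥ u = w from hu, hw, ← ht, smul_smul, Units.inv_mul,
      one_smul]
  · rintro _ ⟨z, rfl⟩
    show M.map _ *ᵥ (N.map _ *ᵥ z) = 0
    rw [Matrix.mulVec_mulVec, ← Matrix.map_mul]
    have : M * N = 0 := Matrix.ext_of_mulVec_single fun j => by
      rw [← Matrix.mulVec_mulVec, Matrix.zero_mulVec]
      exact LinearMap.mem_ker.mp (h.ge ⟨Pi.single j 1, rfl⟩)
    rw [this, Matrix.map_zero _ (map_zero _), Matrix.zero_mulVec]

theorem ker_map_eq_bot {a b : ℕ} (M : Matrix (Fin a) (Fin b) R) (h : LinearMap.ker M.mulVecLin = ⊥) :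
    LinearMap.ker (M.map (algebraMap R (FractionRing R))).mulVecLin = ⊥ := by
  rw [ker_map_eq_range M (0 : Matrix (Fin b) (Fin 0) R) (by rw [h, Matrix.mulVecLin_zero, LinearMap.range_zero]),
    Matrix.map_zero _ (map_zero _), Matrix.mulVecLin_zero, LinearMap.range_zero]

end Groth.Agent.McCoy3
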