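import Groth.Agent.Lib.McCoy3.FreeRes
import Mathlib.LinearAlgebra.TensorProduct.Finiteness
import Mathlib.LinearAlgebra.Finsupp.Supported
import Mathlib.LinearAlgebra.Finsupp.Pi

/-!
Injective maps between projective modules over rings with property (P).
-/

set_option autoImplicit false

universe u v

open scoped TensorProduct

namespace Groth.Agent.McCoy3

variable {R : Type u} [CommRing R]

theorem rTensor_injective_of_free (hP : ∀ I : Ideal R, I.FG → I.annihilator = ⊥ → I = ⊤) {ι κ : Type v}
    (u : (ι →₀ R) →ₗ[R] (κ →₀ R)) (hu : Function.Injective u) (Q : Type v) [AddCommGroup Q] [Module R Q] :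
    Function.Injective (u.rTensor Q) := by
  classical
  rw [injective_iff_map_eq_zero]
  intro z hz
  obtain ⟨N', hN, hz'⟩ := TensorProduct.exists_finite_submodule_left_of_setFinite {z} (Set.finite_singleton z)
  obtain ⟨z', rfl⟩ := hz' (Set.mem_singleton z)
  obtain ⟨G, hG⟩ := Module.Finite.iff_fg.mp hN
  let s : Finset ι := G.biUnion fun g => g.support
  let e := Fintype.equivFin s
  let incl : (Fin (Fintype.card s) → R) →ₗ[R] (ι →₀ R) :=
    (Finsupp.lmapDomain R R fun i => ((e.symm i : s) : ι)).comp (Finsupp.linearEquivFunOnFinite R R _).symm.toLinearMap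
  have hincl : Function.Injective incl :=
    (Finsupp.mapDomain_injective (Subtype.val_injective.comp e.symm.injective)).comp (LinearEquiv.injective _)
  have hle : N' ≤ LinearMap.range incl := by
    rw [← hG, Submodule.span_le]
    intro g hg
    refine ⟨fun i => g (e.symm i : s), Finsupp.ext fun a => ?_⟩
    show Finsupp.mapDomain _ _ a = g a
    by_cases ha : a ∈ s
    · rw [show a = ((e.symm (e ⟨a, ha⟩) : s) : ι) by simp]
      refine (Finsupp.mapDomain_apply (Subtype.val_injective.comp e.symm.injective) _ _).trans ?_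
      simp
    · rw [Finsupp.mapDomain_of_notMem_range _ _ (by rintro ⟨i, rfl⟩; exact ha (e.symm i).2)]
      by_contra hne
      exact ha (Finset.mem_biUnion.mpr ⟨g, hg, Finsupp.mem_support_iff.mpr (Ne.symm hne)⟩)
  let E := LinearEquiv.ofInjective incl hincl
  let w : (Fin (Fintype.card s) → R) ⊗[R] Q := ((E.symm.toLinearMap).comp (Submodule.inclusion hle)).rTensor Q z'
  have hw : incl.rTensor Q w = N'.subtype.rTensor Q z' := by
    rw [← LinearMap.comp_apply, ← LinearMap.rTensor_comp]
    refine congrArg (fun φ => LinearMap.rTensor Q φ z') (LinearMap.ext fun x => ?_)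
    show incl (E.symm (Submodule.inclusion hle x)) = (x : ι →₀ R)
    exact congrArg Subtype.val (E.apply_symm_apply _)
  -- project to finitely many coordinates
  let T : Finset κ := Finset.univ.biUnion fun i : Fin (Fintype.card s) => (u (incl (Pi.single i 1))).support
  let eT := Fintype.equivFin T
  let proj : (κ →₀ R) →ₗ[R] (Fin (Fintype.card T) → R) := LinearMap.pi fun j => Finsupp.lapply ((eT.symm j : T) : κ)
  let g := u.comp incl
  have hg : Function.Injective (proj.comp g) := by
    rw [injective_iff_map_eq_zero]
    intro x hx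
    refine (injective_iff_map_eq_zero incl).mp hincl x ((injective_iff_map_eq_zero u).mp hu _ ?_)
    ext k
    by_cases hk : k ∈ T
    · have := congrFun hx (eT ⟨k, hk⟩)
      simpa [proj, g] using this
    · show (u (incl x)) k = 0
      rw [pi_eq_sum_univ' x, map_sum, map_sum, Finsupp.finsetSum_apply]
      refine Finset.sum_eq_zero fun i _ => ?_
      rw [map_smul, map_smul, Finsupp.smul_apply]
      have : (u (incl (Pi.single i 1))) k = 0 := by
        by_contra hne
        exact hk (Finset.mem_biUnion.mpr ⟨i, Finset.mem_univ _, Finsupp.mem_support_iff.mpr hne⟩)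
      rw [this, smul_zero]
  obtain ⟨L, hL⟩ := exists_leftInverse_of_fg hP _ hg
  have h1 : g.rTensor Q w = 0 := by
    show (u.comp incl).rTensor Q w = 0
    rw [LinearMap.rTensor_comp, LinearMap.comp_apply, hw]
    exact hz
  have h2 : w = 0 := by
    have := congrArg ((L.comp proj).rTensor Q) h1
    rwa [← LinearMap.comp_apply, ← LinearMap.rTensor_comp, LinearMap.comp_assoc, hL, LinearMap.rTensor_id, LinearMap.id_apply,
      map_zero] at this
  rw [← hw, h2, map_zero]

theorem rTensor_injective_of_projective (hP : ∀ I : Ideal R, I.FG → I.annihilator = ⊥ → I = ⊤)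
    (N M : Type v) [AddCommGroup N] [Module R N] [Module.Projective R N] [AddCommGroup M] [Module R M]
    [Module.Projective R M] (u : N →ₗ[R] M) (hu : Function.Injective u) (Q : Type v) [AddCommGroup Q] [Module R Q] :
    Function.Injective (u.rTensor Q) := by
  classical
  obtain ⟨i, hi⟩ := Module.projective_def'.mp ‹Module.Projective R N›
  obtain ⟨j, hj⟩ := Module.projective_def'.mp ‹Module.Projective R M›
  let p := Finsupp.linearCombination R (id : N → N)
  have hpi : ∀ x, p (i x) = x := fun x => LinearMap.congr_fun hi x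
  have hji : Function.Injective j := Function.LeftInverse.injective (g := Finsupp.linearCombination R id)
    (fun x => LinearMap.congr_fun hj x)
  let F := (Finsupp.sumFinsuppLEquivProdFinsupp R : (M ⊕ N →₀ R) ≃ₗ[R] (M →₀ R) × (N →₀ R)).symm.toLinearMap.comp
    (LinearMap.prod (j.comp (u.comp p)) (LinearMap.id - i.comp p))
  have hF : Function.Injective F := by
    refine ((Finsupp.sumFinsuppLEquivProdFinsupp R : (M ⊕ N →₀ R) ≃ₗ[R] (M →₀ R) × (N →₀ R)).symm.injective).comp ((injective_iff_map_eq_zero (LinearMap.prod (j.comp (u.comp p))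
      (LinearMap.id - i.comp p))).mpr fun y hy => ?_)
    have h1 : j (u (p y)) = 0 := congrArg Prod.fst hy
    have h2 : y - i (p y) = 0 := congrArg Prod.snd hy
    rw [(injective_iff_map_eq_zero u).mp hu _ ((injective_iff_map_eq_zero j).mp hji _ h1), map_zero, sub_zero] at h2
    exact h2
  rw [injective_iff_map_eq_zero]
  intro z hz
  have h1 : F.rTensor Q (i.rTensor Q z) = 0 := by
    rw [← LinearMap.comp_apply, ← LinearMap.rTensor_comp]
    rw [show F.comp i = ((Finsupp.sumFinsuppLEquivProdFinsupp R : (M ⊕ N →₀ R) ≃ₗ[R] (M →₀ R) × (N →₀ R)).symm.toLinearMap.comp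
      ((LinearMap.inl R _ _).comp j)).comp u from LinearMap.ext fun x => by simp [F, hpi],
      LinearMap.rTensor_comp, LinearMap.comp_apply, hz, map_zero]
  have h2 := (injective_iff_map_eq_zero _).mp (rTensor_injective_of_free hP F hF Q) _ h1
  have h3 := congrArg (p.rTensor Q) h2
  rwa [← LinearMap.comp_apply, ← LinearMap.rTensor_comp, hi, LinearMap.rTensor_id, LinearMap.id_apply, map_zero] at h3

end Groth.Agent.McCoy3
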